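import Cfsg.Agent.H132.S5.Main
import Cfsg.Agent.CpAut.Psl
import Cfsg.Agent.H947.Sy.Psl2A
import Cfsg.Agent.LieRecognition.FieldSemilinear
import Cfsg.Agent.H106.MTrace

/-!
# The strong row of `PSL₂(q)`, `p ≥ 5` the characteristic (S2274, row R2)

* `spair_inner` : pairs of elements of order `p`;
* `form` : the automorphisms of order `p` which are not inner are conjugate (under `Inn`) to field automorphisms;
* `srow_psl2_own` : the row.
-/

set_option autoImplicit false
set_option linter.unusedSectionVars false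

universe u

namespace Cfsg.Agent.H140.S5.PSL2Own

open Matrix Cfsg.Agent.H533.T5 Cfsg.Agent.H106.MB Cfsg.Agent.H106.MT Cfsg.Agent.H28.T5Mid Cfsg.Agent.H28.T5Ok
  Cfsg.Agent.H132.S5
open Cfsg.Agent.LieClassical.SLTwoUnipotent Cfsg.Agent.ClassicalGeometry.PSL2Solvable
open Cfsg.Agent.ClassicalGeometry.AutPSL.Root Cfsg.Agent.ClassicalGeometry.AutPSL.Auto
  Cfsg.Agent.ClassicalGeometry.AutPSL.Main
open Cfsg.Agent.CpAut.Psl Cfsg.Agent.CpAut.Fix
open Cfsg.Agent.H947.Sy (ShU ShD pr_eq_iff exists_borel shape u_pow)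

section SL

variable {F : Type*} [Field F]

local notation "S2" => Matrix.SpecialLinearGroup (Fin 2) F
local notation "P2" => Matrix.ProjectiveSpecialLinearGroup (Fin 2) F

/-- the diagonal matrix `(t, t⁻¹)` -/
def dg (t : Fˣ) : S2 := ⟨!![(t : F), 0; 0, ((t⁻¹ : Fˣ) : F)], by
  rw [Matrix.det_fin_two_of, mul_zero, sub_zero, ← Units.val_mul, mul_inv_cancel, Units.val_one]⟩

/-- the Weyl element -/
def wy : S2 := ⟨!![0, -1; 1, 0], by rw [Matrix.det_fin_two_of]; ring⟩

theorem dg_u (t : Fˣ) (a : F) : dg t * u a * (dg t)⁻¹ = (u ((t : F) ^ 2 * a) : S2) := by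
  rw [mul_inv_eq_iff_eq_mul]
  apply Subtype.ext
  rw [Matrix.SpecialLinearGroup.coe_mul, Matrix.SpecialLinearGroup.coe_mul, coe_u, coe_u]
  change !![(t : F), 0; 0, ((t⁻¹ : Fˣ) : F)] * !![1, a; 0, 1] =
    !![1, (t : F) ^ 2 * a; 0, 1] * !![(t : F), 0; 0, ((t⁻¹ : Fˣ) : F)]
  have h : (t : F) ≠ 0 := t.ne_zero
  rw [Matrix.mul_fin_two, Matrix.mul_fin_two]
  ext i j
  fin_cases i <;> fin_cases j <;> simp
  field_simp

theorem wy_u (a : F) : wy * u a * (wy)⁻¹ = (l (-a) : S2) := by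
  rw [mul_inv_eq_iff_eq_mul]
  apply Subtype.ext
  rw [Matrix.SpecialLinearGroup.coe_mul, Matrix.SpecialLinearGroup.coe_mul, coe_u, coe_l]
  change !![0, -1; 1, 0] * !![1, a; 0, 1] = !![1, 0; -a, 1] * !![(0 : F), -1; 1, 0]
  rw [Matrix.mul_fin_two, Matrix.mul_fin_two]
  ext i j
  fin_cases i <;> fin_cases j <;> simp

theorem coe_ul (a b : F) : ((u a * l b : S2) : Matrix (Fin 2) (Fin 2) F) = !![1 + a * b, a; b, 1] := by
  rw [Matrix.SpecialLinearGroup.coe_mul, coe_u, coe_l, Matrix.mul_fin_two]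
  ext i j
  fin_cases i <;> fin_cases j <;> simp

theorem coe_lu (a b : F) : ((l b * u a : S2) : Matrix (Fin 2) (Fin 2) F) = !![1, a; b, 1 + a * b] := by
  rw [Matrix.SpecialLinearGroup.coe_mul, coe_u, coe_l, Matrix.mul_fin_two]
  ext i j
  fin_cases i <;> fin_cases j <;> simp
  ring

variable {p : ℕ} [hpf : Fact p.Prime] [CharP F p]

theorem cast_ne (p : ℕ) [CharP F p] {n : ℕ} (h : ¬ p ∣ n) : (n : F) ≠ 0 := by
  rwa [Ne, CharP.cast_eq_zero_iff F p]

theorem two_ne (h5 : 5 ≤ p) : (2 : F) ≠ 0 := by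
  have := cast_ne (F := F) p (n := 2) (fun h => by have := Nat.le_of_dvd (by omega) h; omega)
  exact_mod_cast this

theorem three_ne (h5 : 5 ≤ p) : (3 : F) ≠ 0 := by
  have := cast_ne (F := F) p (n := 3) (fun h => by have := Nat.le_of_dvd (by omega) h; omega)
  exact_mod_cast this

/-- The trace of a `p`-element of `PSL₂`. -/
theorem trace_of_pow {M : S2} {k : ℕ} (h : (pr M : P2) ^ p ^ k = 1) :
    Matrix.trace (M : Matrix (Fin 2) (Fin 2) F) = 2 ∨ Matrix.trace (M : Matrix (Fin 2) (Fin 2) F) = -2 := by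
  rw [← map_pow, ← map_one (pr : S2 →* P2)] at h
  rcases pr_eq_iff.1 h.symm with h1 | h1
  · left
    have h2 := congrArg (fun X : S2 => (X : Matrix (Fin 2) (Fin 2) F)) h1
    simp only [Matrix.SpecialLinearGroup.coe_pow, Matrix.SpecialLinearGroup.coe_one] at h2
    rw [Cfsg.Agent.H106.MTrace.trace_of_pow h2, Fintype.card_fin]
    norm_num
  · right
    have h2 : (M : Matrix (Fin 2) (Fin 2) F) ^ p ^ k = -1 := by
      have := congrArg (fun X : S2 => (X : Matrix (Fin 2) (Fin 2) F)) h1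
      simpa using this
    have h3 : ((M : Matrix (Fin 2) (Fin 2) F) + 1) ^ p ^ k = 0 := by
      have : CharP (Matrix (Fin 2) (Fin 2) F) p := Matrix.charP p
      rw [add_pow_char_pow_of_commute p k (Commute.one_right _), h2, one_pow, neg_add_cancel]
    have h4 := (Matrix.isNilpotent_trace_of_isNilpotent ⟨_, h3⟩).eq_zero
    rw [Matrix.trace_add, Matrix.trace_one, Fintype.card_fin] at h4
    have h5 : ((2 : ℕ) : F) = 2 := by norm_num
    rw [h5] at h4
    linear_combination h4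

theorem bpair_u (h5 : 5 ≤ p) {a b : F} (ha : a ≠ 0) (hb : b ≠ 0) :
    BPair p (⊤ : Subgroup P2) (pr (u a)) (pr (u b)) := by
  have h2 := two_ne (F := F) h5
  have h3 := three_ne (F := F) h5
  obtain ⟨t, ht⟩ : ∃ t : Fˣ, a * ((t : F) ^ 2 * b) ≠ 4 := by
    by_cases h : a * b = 4
    · refine ⟨Units.mk0 2 h2, fun h6 => mul_ne_zero (mul_ne_zero h2 h2) h3 ?_⟩
      rw [Units.val_mk0] at h6
      linear_combination h6 - 4 * h
    · exact ⟨1, by simpa using h⟩
  refine ⟨pr wy * pr (dg t), Subgroup.mem_top _, fun k hk => ?_⟩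
  have e1 : (pr wy * pr (dg t) * pr (u b) * (pr wy * pr (dg t))⁻¹ : P2) = pr (l (-((t : F) ^ 2 * b))) := by
    rw [← wy_u, ← dg_u]
    simp only [map_mul, map_inv]
    group
  rw [e1, ← map_mul] at hk
  have h6 := trace_of_pow hk
  rw [coe_ul, Matrix.trace_fin_two_of] at h6
  rcases h6 with h6 | h6
  · apply mul_ne_zero ha (mul_ne_zero (pow_ne_zero 2 t.ne_zero) hb)
    linear_combination -h6
  · apply ht
    linear_combination -h6

theorem apair_u (h5 : 5 ≤ p) [Fintype F] {a b : F} (ha : a ≠ 0) (hb : b ≠ 0) :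
    APair (⊤ : Subgroup P2) (pr (u a)) (pr (u b)) := by
  have h2 := two_ne (F := F) h5
  have hp : p.Prime := hpf.out
  refine ⟨pr wy, Subgroup.mem_top _, fun hsol => ?_⟩
  have e1 : (pr wy * pr (u b) * (pr wy)⁻¹ : P2) = pr (l (-b)) := by
    rw [← wy_u]
    simp only [map_mul, map_inv]
  rw [e1] at hsol
  obtain ⟨x, hx⟩ : ∃ x : P2, x = pr (u a) := ⟨_, rfl⟩
  obtain ⟨y, hy⟩ : ∃ y : P2, y = pr (l (-b)) := ⟨_, rfl⟩
  have hxp : x ^ p = 1 := by rw [hx, ← map_pow, u_pow, map_one]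
  have hyp : y ^ p = 1 := by rw [hy, ← e1, conj_pow, ← map_pow, u_pow, map_one, mul_one, mul_inv_cancel]
  have hxy : x * y ≠ y * x := by
    intro h
    rw [hx, hy, ← map_mul, ← map_mul] at h
    rcases pr_eq_iff.1 h with h6 | h6
    · have h7 := congrArg (fun X : S2 => (X : Matrix (Fin 2) (Fin 2) F) 0 0) h6
      simp only [coe_ul, coe_lu] at h7
      apply mul_ne_zero ha hb
      simpa using h7
    · have h7 := congrArg (fun X : S2 => (X : Matrix (Fin 2) (Fin 2) F) 0 1) h6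
      simp only [coe_ul, coe_lu, Matrix.SpecialLinearGroup.coe_neg, Matrix.neg_apply] at h7
      have h8 : a = -a := by simpa using h7
      apply mul_ne_zero h2 ha
      linear_combination h8
  obtain ⟨H, hH⟩ : ∃ H, H = Subgroup.closure ({x, y} : Set P2) := ⟨_, rfl⟩
  have hxH : x ∈ H := by rw [hH]; exact Subgroup.subset_closure (by simp)
  have hyH : y ∈ H := by rw [hH]; exact Subgroup.subset_closure (by simp)
  have hx1 : x ≠ 1 := fun h => hxy (by rw [h, one_mul, mul_one])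
  have hy1 : y ≠ 1 := fun h => hxy (by rw [h, one_mul, mul_one])
  have hxo : orderOf x = p := orderOf_eq_prime hxp hx1
  have hyo : orderOf y = p := orderOf_eq_prime hyp hy1
  have hd : p ∣ Nat.card H := by
    rw [← hxo, ← Subgroup.orderOf_mk x hxH]
    exact orderOf_dvd_natCard _
  rw [← hx, ← hy, ← hH] at hsol
  rcases shape (l := p) H hsol hp h5 hd with ⟨Q, hQ, hQH, hQp, -, hQa⟩ | ⟨A, -, hAc, hA2, -⟩
  · obtain ⟨g, hg, -⟩ := exists_borel hQ hQp
    obtain ⟨c, hc⟩ := hg x (hQa x hxH ⟨1, by rwa [pow_one]⟩)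
    obtain ⟨d, hd⟩ := hg y (hQa y hyH ⟨1, by rwa [pow_one]⟩)
    apply hxy
    rw [hc, hd, ← map_mul, ← map_mul]
    congr 1
    have e2 : g * u c * g⁻¹ * (g * u d * g⁻¹) = g * (u c * u d) * g⁻¹ := by group
    have e3 : g * u d * g⁻¹ * (g * u c * g⁻¹) = g * (u d * u c) * g⁻¹ := by group
    rw [e2, e3, ← u_add, ← u_add, add_comm]
  · have hsq : ∀ z : P2, orderOf z = p → z ^ 2 ≠ 1 := by
      intro z hz h
      have h6 := Nat.le_of_dvd (by norm_num) (orderOf_dvd_of_pow_eq_one h)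
      omega
    exact hxy (hAc x (hA2 x hxH (hsq x hxo)) y (hA2 y hyH (hsq y hyo)))

/-- the normal form of the elements of order `p` -/
theorem exists_u [Fintype F] {x : P2} (hx : orderOf x = p) : ∃ (g : P2) (a : F), a ≠ 0 ∧ x = g * pr (u a) * g⁻¹ := by
  have hp : p.Prime := hpf.out
  have hx1 : x ≠ 1 := by
    rintro rfl
    rw [orderOf_one] at hx
    exact hp.one_lt.ne hx
  obtain ⟨g, hg, -⟩ := exists_borel (l := p) (Q := Subgroup.zpowers x) (by rwa [Ne, Subgroup.zpowers_eq_bot])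
    (IsPGroup.of_card (n := 1) (by rw [Nat.card_zpowers, hx, pow_one]))
  obtain ⟨c, hc⟩ := hg x (Subgroup.mem_zpowers x)
  refine ⟨pr g, c, ?_, by rw [hc]; simp only [map_mul, map_inv]⟩
  rintro rfl
  apply hx1
  rw [hc, u_zero, mul_one, mul_inv_cancel, map_one]

/-- **Pairs of elements of order `p`.** -/
theorem spair_inner (h5 : 5 ≤ p) [Fintype F] {x y : P2} (hx : orderOf x = p) (hy : orderOf y = p) :
    SPair p (⊤ : Subgroup P2) x y := by
  obtain ⟨g, a, ha, rfl⟩ := exists_u hx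
  obtain ⟨h, b, hb, rfl⟩ := exists_u hy
  have e1 : g⁻¹ * (g * pr (u a) * g⁻¹) * g⁻¹⁻¹ = pr (u a) := by group
  have e2 : h⁻¹ * (h * pr (u b) * h⁻¹) * h⁻¹⁻¹ = pr (u b) := by group
  refine SPair.mk' hpf.out ?_ ?_
  · refine APair.conj_left (s := g⁻¹) (Subgroup.mem_top _) (APair.conj_right (s := h⁻¹) (Subgroup.mem_top _) ?_)
    rw [e1, e2]
    exact apair_u h5 ha hb
  · refine BPair.conj_left (s := g⁻¹) (Subgroup.mem_top _) (BPair.conj_right (s := h⁻¹) (Subgroup.mem_top _) ?_)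
    rw [e1, e2]
    exact bpair_u h5 ha hb

end SL

section Field

variable {F : Type*} [Field F] [Fintype F]

theorem quadraticChar_map [DecidableEq F] (σ : F ≃+* F) {c : F} (hc : c ≠ 0) :
    quadraticChar F (σ c) = quadraticChar F c := by
  have hσc : σ c ≠ 0 := (map_ne_zero σ).2 hc
  by_cases h : IsSquare c
  · have h1 : IsSquare (σ c) := h.map σ
    rw [(quadraticChar_one_iff_isSquare hc).2 h, (quadraticChar_one_iff_isSquare hσc).2 h1]
  · have h1 : ¬ IsSquare (σ c) := fun h2 => h (by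
      have := h2.map σ.symm
      rwa [σ.symm_apply_apply] at this)
    rcases quadraticChar_dichotomy hc with h2 | h2
    · exact absurd ((quadraticChar_one_iff_isSquare hc).1 h2) h
    · rcases quadraticChar_dichotomy hσc with h3 | h3
      · exact absurd ((quadraticChar_one_iff_isSquare hσc).1 h3) h1
      · rw [h2, h3]

/-- `c = e f²` with `e` fixed by `σ`, when `σ` has odd order -/
theorem exists_fixed_square {σ : F ≃+* F} {p : ℕ} (hσ : orderOf σ = p) (hodd : Odd p) {c : F} (hc : c ≠ 0) :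
    ∃ e f : Fˣ, σ (e : F) = e ∧ c = e * (f : F) ^ 2 := by
  classical
  obtain ⟨N, hN⟩ : ∃ N : F, N = ∏ i ∈ Finset.range p, (σ ^ i) c := ⟨_, rfl⟩
  have hN0 : N ≠ 0 := by
    rw [hN, Finset.prod_ne_zero_iff]
    exact fun i _ => (map_ne_zero (σ ^ i)).2 hc
  have hfix : σ N = N := by
    rw [hN, map_prod]
    have h1 : ∏ i ∈ Finset.range p, σ ((σ ^ i) c) = ∏ i ∈ Finset.range p, (σ ^ (i + 1)) c := by
      refine Finset.prod_congr rfl fun i _ => ?_
      rw [pow_succ']
      rfl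
    rw [h1]
    have h2 := Finset.prod_range_succ (fun i => (σ ^ i) c) p
    have h3 := Finset.prod_range_succ' (fun i => (σ ^ i) c) p
    rw [h2] at h3
    have h4 : (σ ^ p) c = (σ ^ 0) c := by rw [← hσ, pow_orderOf_eq_one, pow_zero]
    rw [h4] at h3
    have h5 : (σ ^ 0) c ≠ 0 := (map_ne_zero (σ ^ 0)).2 hc
    exact (mul_right_cancel₀ h5 h3).symm
  have hch : quadraticChar F N = quadraticChar F c ^ p := by
    rw [hN, map_prod]
    rw [Finset.prod_congr rfl fun i _ => quadraticChar_map (σ ^ i) hc]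
    rw [Finset.prod_const, Finset.card_range]
  have hch2 : quadraticChar F (N * c) = 1 := by
    rw [map_mul, hch, ← pow_succ]
    obtain ⟨k, hk⟩ := hodd
    rw [hk, show 2 * k + 1 + 1 = 2 * (k + 1) by ring, pow_mul, quadraticChar_sq_one hc, one_pow]
  obtain ⟨f, hf⟩ := (quadraticChar_one_iff_isSquare (mul_ne_zero hN0 hc)).1 hch2
  have hf0 : f ≠ 0 := by
    rintro rfl
    rw [mul_zero] at hf
    exact mul_ne_zero hN0 hc hf
  refine ⟨Units.mk0 N hN0, Units.mk0 (f / N) (div_ne_zero hf0 hN0), hfix, ?_⟩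
  rw [Units.val_mk0, Units.val_mk0]
  field_simp
  linear_combination hf

end Field

section Outer

variable {F : Type*} [Field F] [Fintype F] {p : ℕ} [hpf : Fact p.Prime] [CharP F p]

local notation "S2" => Matrix.SpecialLinearGroup (Fin 2) F
local notation "P2" => Matrix.ProjectiveSpecialLinearGroup (Fin 2) F

/-- the field automorphisms of `PSL₂` -/
noncomputable def Fa : (F ≃+* F) →* MulAut P2 := (lift (ι := Fin 2) (F := F)).comp fld

theorem Fa_pr (σ : F ≃+* F) (x : S2) : Fa σ (pr x) = (pr (fld σ x) : P2) := rfl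

theorem fld_u (σ : F ≃+* F) (a : F) : fld σ (u a : S2) = u (σ a) := by
  apply Subtype.ext
  ext i j
  rw [coe_fld_apply, coe_u, coe_u]
  fin_cases i <;> fin_cases j <;> simp

/-- diagonal matrix `(e, 1)` -/
def dge (e : Fˣ) : GL (Fin 2) F where
  val := !![(e : F), 0; 0, 1]
  inv := !![((e⁻¹ : Fˣ) : F), 0; 0, 1]
  val_inv := by
    rw [Matrix.mul_fin_two, Matrix.one_fin_two]
    simp
  inv_val := by
    rw [Matrix.mul_fin_two, Matrix.one_fin_two]
    simp

theorem fgl_dge {σ : F ≃+* F} {e : Fˣ} (he : σ (e : F) = e) : fgl σ (dge e) = dge e := by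
  apply Units.ext
  rw [coe_fgl]
  change (!![(e : F), 0; 0, 1]).map σ = !![(e : F), 0; 0, 1]
  ext i j
  fin_cases i <;> fin_cases j <;> simp [he]

/-- conjugation by a matrix of determinant one is inner -/
theorem lift_cj_of_det {B : GL (Fin 2) F} {b : S2} (hb : (b : Matrix (Fin 2) (Fin 2) F) = B) :
    lift (cj B) = MulAut.conj (pr b : P2) := by
  apply MulEquiv.ext
  intro x
  obtain ⟨x, rfl⟩ := pr_surjective x
  have h6 : cj B x = b * x * b⁻¹ := by
    apply Subtype.ext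
    rw [coe_cj, Matrix.SpecialLinearGroup.coe_mul, Matrix.SpecialLinearGroup.coe_mul, hb]
    congr 1
    have h4 : ((B⁻¹ : GL (Fin 2) F) : Matrix (Fin 2) (Fin 2) F) * (B : Matrix (Fin 2) (Fin 2) F) = 1 := by
      rw [← Units.val_mul, inv_mul_cancel, Units.val_one]
    have h5 : (B : Matrix (Fin 2) (Fin 2) F) *
        ((b⁻¹ : Matrix.SpecialLinearGroup (Fin 2) F) : Matrix (Fin 2) (Fin 2) F) = 1 := by
      rw [← hb, ← Matrix.SpecialLinearGroup.coe_mul, mul_inv_cancel, Matrix.SpecialLinearGroup.coe_one]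
    exact left_inv_eq_right_inv h4 h5
  rw [lift_pr, h6, map_mul, map_mul, map_inv]
  rfl

/-- **Automorphisms of order `p` which are not inner.** -/
theorem form (h5 : 5 ≤ p) {x : MulAut P2} (hx : orderOf x = p) (hxo : ¬ ∃ g, x = MulAut.conj g) :
    ∃ σ : F ≃+* F, orderOf σ = p ∧ ∃ s : P2, x = MulAut.conj s * Fa σ * (MulAut.conj s)⁻¹ := by
  have hp : p.Prime := hpf.out
  have hodd : Odd p := hp.odd_of_ne_two (by omega)
  have hxp : x ^ p = 1 := by rw [← hx, pow_orderOf_eq_one]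
  obtain ⟨A, σ, hA⟩ := exists_of_odd (F := F) (n := 2) le_rfl hodd hxp
  have hσ1 : σ ≠ 1 := by
    rintro rfl
    rw [map_one, mul_one] at hA
    obtain ⟨g, hg⟩ := inner_of_lin (F := F) (n := 2) le_rfl (p := p) (A := A) (by rw [← hA, hxp])
    exact hxo ⟨g, by rw [hA, hg]⟩
  obtain ⟨hσ, B, hB⟩ := exists_conj (F := F) (ι := Fin 2) hp (A := A) (σ := σ) (by rw [← hA, hxp]) hσ1
  refine ⟨σ, hσ, ?_⟩
  have hdet : (B : Matrix (Fin 2) (Fin 2) F).det ≠ 0 := by
    have h1 := (Matrix.GeneralLinearGroup.det B).ne_zero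
    rwa [Matrix.GeneralLinearGroup.val_det_apply] at h1
  obtain ⟨e, f, he, hef⟩ := exists_fixed_square hσ hodd hdet
  obtain ⟨B', hB'⟩ : ∃ B' : GL (Fin 2) F, B' = (scg f)⁻¹ * B * (dge e)⁻¹ := ⟨_, rfl⟩
  have hBB' : B = scg f * B' * dge e := by rw [hB']; group
  have hdet' : (B' : Matrix (Fin 2) (Fin 2) F).det = 1 := by
    have h1 : (B : Matrix (Fin 2) (Fin 2) F).det = (f : F) ^ 2 * (B' : Matrix (Fin 2) (Fin 2) F).det * e := by
      rw [hBB', Units.val_mul, Units.val_mul, Matrix.det_mul, Matrix.det_mul]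
      have h2 : ((scg f : GL (Fin 2) F) : Matrix (Fin 2) (Fin 2) F).det = (f : F) ^ 2 := by
        change (scalar (Fin 2) (f : F)).det = _
        rw [Matrix.scalar_apply, Matrix.det_diagonal, Finset.prod_const, Finset.card_univ, Fintype.card_fin]
      have h3 : ((dge e : GL (Fin 2) F) : Matrix (Fin 2) (Fin 2) F).det = e := by
        change (!![(e : F), 0; 0, 1]).det = e
        rw [Matrix.det_fin_two_of]
        ring
      rw [h2, h3]
    rw [hef] at h1
    have h2 : (e : F) * (f : F) ^ 2 ≠ 0 := mul_ne_zero e.ne_zero (pow_ne_zero 2 f.ne_zero)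
    apply mul_left_cancel₀ h2
    linear_combination -h1
  obtain ⟨b, hb⟩ : ∃ b : S2, (b : Matrix (Fin 2) (Fin 2) F) = B' := ⟨⟨(B' : Matrix (Fin 2) (Fin 2) F), hdet'⟩, rfl⟩
  refine ⟨pr b, ?_⟩
  have h1 : (cj B : MulAut S2) = cj B' * cj (dge e) := by
    rw [hBB', map_mul, map_mul, cj_scg, one_mul]
  have h2 : (cj (dge e) : MulAut S2) * fld σ * (cj (dge e))⁻¹ = fld σ := by
    rw [mul_inv_eq_iff_eq_mul, fld_mul_cj, fgl_dge he]
  have h3 : (cj B : MulAut S2) * fld σ * (cj B)⁻¹ = cj B' * fld σ * (cj B')⁻¹ := by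
    rw [h1]
    calc cj B' * cj (dge e) * fld σ * (cj B' * cj (dge e))⁻¹ =
        cj B' * (cj (dge e) * fld σ * (cj (dge e))⁻¹) * (cj B')⁻¹ := by group
      _ = _ := by rw [h2]
  rw [hA, hB, h3, map_mul, map_mul, map_inv, lift_cj_of_det hb]
  rfl

/-- every element of order `p` has a conjugate fixed by the field automorphism -/
theorem exists_fix_Fa {σ : F ≃+* F} (h5 : 5 ≤ p) (hσ : orderOf σ = p) {x : P2} (hx : orderOf x = p) :
    ∃ t : P2, Fa σ (t * x * t⁻¹) = t * x * t⁻¹ := by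
  obtain ⟨g, a, ha, rfl⟩ := exists_u hx
  obtain ⟨e, f, he, hef⟩ := exists_fixed_square hσ (hpf.out.odd_of_ne_two (by omega)) ha
  refine ⟨(g * pr (dg f))⁻¹, ?_⟩
  have h1 : (g * pr (dg f))⁻¹ * (g * pr (u a) * g⁻¹) * (g * pr (dg f))⁻¹⁻¹ = pr (u (e : F)) := by
    have h2 : u a = dg f * u (e : F) * (dg f)⁻¹ := by rw [dg_u, hef, mul_comm]
    rw [h2]
    simp only [map_mul, map_inv]
    group
  rw [h1, Fa_pr, fld_u, he]

theorem neg_ne (h5 : 5 ≤ p) (x : S2) : -x ≠ x := by
  have h2 := two_ne (F := F) h5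
  intro h
  have hent : ∀ i j, (x : Matrix (Fin 2) (Fin 2) F) i j = 0 := by
    intro i j
    have h1 := congrArg (fun X : S2 => (X : Matrix (Fin 2) (Fin 2) F) i j) h
    simp only [Matrix.SpecialLinearGroup.coe_neg, Matrix.neg_apply] at h1
    have h3 : (2 : F) * (x : Matrix (Fin 2) (Fin 2) F) i j = 0 := by linear_combination -h1
    exact (mul_eq_zero.1 h3).resolve_left h2
  have h1 : (x : Matrix (Fin 2) (Fin 2) F).det = 1 := x.2
  rw [Matrix.det_fin_two, hent 0 0, hent 0 1, zero_mul, zero_mul, sub_zero] at h1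
  exact zero_ne_one h1

/-- the fixed points of the field automorphism -/
theorem mem_range_of_fix {σ : F ≃+* F} (h5 : 5 ≤ p) (hσ : orderOf σ = p) {y : P2} (hy : Fa σ y = y) :
    y ∈ ((QuotientGroup.mk' (Subgroup.center S2)).comp (emb (ι := Fin 2) σ)).range := by
  obtain ⟨a, rfl⟩ := pr_surjective y
  rw [Fa_pr] at hy
  have h1 : fld σ a = a := by
    rcases pr_eq_iff.1 hy with h | h
    · exact h.symm
    · exfalso
      have hodd : Odd p := hpf.out.odd_of_ne_two (by omega)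
      have h2 : fld σ a = -a := neg_eq_iff_eq_neg.1 h.symm
      have h3 : ∀ k : ℕ, ((fld σ : MulAut S2) ^ k) a = if Even k then a else -a := by
        intro k
        induction k with
        | zero => simp
        | succ k ih =>
          rw [pow_succ, MulAut.mul_apply, h2]
          have h4 : ((fld σ : MulAut S2) ^ k) (-a) = -(((fld σ : MulAut S2) ^ k) a) := by
            have h5 : (fld σ : MulAut S2) ^ k = fld (σ ^ k) := (map_pow _ _ _).symm
            rw [h5]
            apply Subtype.ext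
            ext i j
            rw [coe_fld_apply, Matrix.SpecialLinearGroup.coe_neg, Matrix.SpecialLinearGroup.coe_neg, Matrix.neg_apply,
              Matrix.neg_apply, map_neg, coe_fld_apply]
          rw [h4, ih]
          by_cases hk : Even k
          · simp [hk, Nat.even_add_one]
          · simp [hk, Nat.even_add_one]
      have h4 := h3 p
      rw [← map_pow, ← hσ, pow_orderOf_eq_one, map_one, MulAut.one_apply, hσ, if_neg (Nat.not_even_iff_odd.2 hodd)] at h4
      exact neg_ne h5 a h4.symm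
  obtain ⟨h, hh⟩ := exists_emb h1
  exact ⟨h, by rw [MonoidHom.comp_apply, hh]⟩

theorem card_fixf (σ : F ≃+* F) (h5 : 5 ≤ p) : 5 ≤ Nat.card ↥(fixf σ) := by
  have h1 : CharP ↥(fixf σ) p := (RingHom.charP_iff (fixf σ).subtype (fixf σ).subtype.injective p).2 inferInstance
  have := Fintype.ofFinite ↥(fixf σ)
  obtain ⟨n, -, hn⟩ := FiniteField.card ↥(fixf σ) p
  rw [Nat.card_eq_fintype_card, hn]
  exact h5.trans (Nat.le_self_pow n.2.ne' p)

/-- the fixed points of the field automorphism form a simple group -/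
theorem sb_Fa {σ : F ≃+* F} (h5 : 5 ≤ p) (hσ : orderOf σ = p) : SB (Fa σ : MulAut P2) := by
  have hfin := Fintype.ofFinite ↥(fixf σ)
  have hcard := card_fixf (F := F) σ h5
  rw [Nat.card_eq_fintype_card] at hcard
  have hs : IsSimpleGroup (Matrix.ProjectiveSpecialLinearGroup (Fin 2) ↥(fixf σ)) :=
    Matrix.ProjectiveSpecialLinearGroup.rank_two_simple (by rw [Nat.card_eq_fintype_card]; omega)
  have hna : ¬ IsMulCommutative (Matrix.ProjectiveSpecialLinearGroup (Fin 2) ↥(fixf σ)) := by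
    intro hc
    refine not_isSolvable_psl ↥(fixf σ) (by omega) (IsSimpleGroup.comm_iff_isSolvable.1 hc.is_comm.comm)
  obtain ⟨N, hN⟩ : ∃ N, N = ((QuotientGroup.mk' (Subgroup.center S2)).comp (emb (ι := Fin 2) σ)).range := ⟨_, rfl⟩
  have e : Matrix.ProjectiveSpecialLinearGroup (Fin 2) ↥(fixf σ) ≃* ↥N :=
    (sett (Fin 2) σ).equiv.trans (MulEquiv.subgroupCongr hN.symm)
  have hsN : IsSimpleGroup ↥N := e.symm.isSimpleGroup
  have hnaN : ¬ IsMulCommutative ↥N := by
    intro hc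
    refine hna ⟨⟨fun a b => e.injective ?_⟩⟩
    rw [map_mul, map_mul]
    exact hc.is_comm.comm _ _
  have hfix : ∀ y : P2, Fa σ y = y → y ∈ N := fun y hy => by
    rw [hN]
    exact mem_range_of_fix h5 hσ hy
  refine ⟨N, ?_, ?_, hsN, hnaN, ?_⟩
  · intro y hy
    rw [hN] at hy
    exact (sett (Fin 2) σ).le hy
  · exact fun y hy => Subgroup.le_normalizer (hfix y hy)
  · intro y hy hyc
    have h1 : (⟨y, hfix y hy⟩ : ↥N) ∈ Subgroup.center ↥N := by
      rw [Subgroup.mem_center_iff]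
      intro z
      exact Subtype.ext (Subgroup.mem_centralizer_iff.1 hyc z z.2)
    rw [Cfsg.Agent.CpAut.Fix.center_eq_bot hnaN, Subgroup.mem_bot] at h1
    exact congrArg Subtype.val h1

theorem outerOk (h5 : 5 ≤ p) : OuterOk p P2 where
  sb d hd hdo _ := by
    obtain ⟨σ, hσ, s, rfl⟩ := form h5 hd hdo
    refine SB.conj (MulAut.conj s)⁻¹ ?_
    have h1 : (MulAut.conj s)⁻¹ * (MulAut.conj s * Fa σ * (MulAut.conj s)⁻¹) * (MulAut.conj s)⁻¹⁻¹ = Fa σ := by group
    rw [h1]
    exact sb_Fa h5 hσ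
  conj c d hc hd hco hdo := by
    obtain ⟨σ, hσ, g, rfl⟩ := form h5 hc hco
    obtain ⟨τ, hτ, g', rfl⟩ := form h5 hd hdo
    have hcyc : IsCyclic (F ≃+* F) := LieRecognition.FieldSemilinear.isCyclic_ringAut F
    have hfinR : Finite (F ≃+* F) := DFunLike.finite _
    obtain ⟨j, hj⟩ := Subgroup.mem_zpowers_iff.1 (mem_zpowers_of_cyclic hpf.out hσ hτ)
    refine ⟨MulAut.conj (g * g'⁻¹), ⟨_, rfl⟩, j, ?_⟩
    have h1 : MulAut.conj (g * g'⁻¹) * (MulAut.conj g' * Fa τ * (MulAut.conj g')⁻¹) * (MulAut.conj (g * g'⁻¹))⁻¹ =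
        MulAut.conj g * Fa τ * (MulAut.conj g)⁻¹ := by
      rw [map_mul, map_inv]
      group
    rw [h1, conj_zpow, ← map_zpow, hj]

/-- an element of order `p` has a conjugate fixed by the outer automorphism `d` -/
theorem hfix (h5 : 5 ≤ p) {d : MulAut P2} (hd : orderOf d = p) (hdo : ¬ ∃ g, d = MulAut.conj g) {x : P2}
    (hx : orderOf x = p) : ∃ s : P2, d (s * x * s⁻¹) = s * x * s⁻¹ := by
  obtain ⟨σ, hσ, s, rfl⟩ := form h5 hd hdo
  obtain ⟨t, ht⟩ := exists_fix_Fa h5 hσ hx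
  refine ⟨s * t, ?_⟩
  have h1 : s * t * x * (s * t)⁻¹ = MulAut.conj s (t * x * t⁻¹) := by
    rw [MulAut.conj_apply]
    group
  rw [h1, MulAut.mul_apply, MulAut.mul_apply, MulAut.inv_apply_self, ht]

end Outer

/-- **The strong row of `PSL₂(q)`, `p ≥ 5` the characteristic** (all automorphisms of order `p`). -/
theorem srow_psl2_own' {F : Type*} [Field F] [Fintype F] {p : ℕ} (hp : p.Prime) (h5 : 5 ≤ p) [CharP F p]
    (hAA : AAHyp.{u} p) (hRS : RSHyp.{u} p) {S : Type u} [Group S]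
    (e : S ≃* Matrix.ProjectiveSpecialLinearGroup (Fin 2) F) : SRow p S := by
  have hpf : Fact p.Prime := ⟨hp⟩
  have h5F : 5 ≤ Fintype.card F := by
    obtain ⟨n, -, hn⟩ := FiniteField.card F p
    rw [hn]
    exact h5.trans (Nat.le_self_pow n.2.ne' p)
  have hs : IsSimpleGroup (Matrix.ProjectiveSpecialLinearGroup (Fin 2) F) :=
    Matrix.ProjectiveSpecialLinearGroup.rank_two_simple (by rw [Nat.card_eq_fintype_card]; omega)
  have hsS : IsSimpleGroup S := e.isSimpleGroup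
  have hfin : Finite S := Finite.of_equiv _ e.symm.toEquiv
  have hna : ¬ IsMulCommutative S := by
    intro hc
    refine not_isSolvable_psl F (by omega) (IsSimpleGroup.comm_iff_isSolvable.1 fun a b => e.symm.injective ?_)
    rw [map_mul, map_mul]
    exact hc.is_comm.comm _ _
  have hO : OuterOk p S := OuterOk.congr e (outerOk h5)
  refine srow_of hAA hRS hp hna ?_ ?_ hO.sb hO.conj
  · intro x y hx hy
    have h1 := spair_inner (F := F) h5 (x := e x) (y := e y) (by rw [MulEquiv.orderOf_eq, hx])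
      (by rw [MulEquiv.orderOf_eq, hy])
    have h2 := h1.of_injective e.symm.toMonoidHom e.symm.injective
    have h3 : ∀ z : S, e.symm.toMonoidHom (e z) = z := fun z => e.symm_apply_apply z
    rw [h3, h3] at h2
    exact h2.mono le_top
  · intro d hd hdo x hx
    obtain ⟨s, hs⟩ := hfix (F := F) h5 (d := MulAut.congr e d) (by rw [MulEquiv.orderOf_eq, hd]) (by rwa [inner_iff])
      (x := e x) (by rw [MulEquiv.orderOf_eq, hx])
    refine ⟨e.symm s, e.injective ?_⟩
    have h1 : e (e.symm s * x * (e.symm s)⁻¹) = s * e x * s⁻¹ := by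
      rw [map_mul, map_mul, map_inv, e.apply_symm_apply]
    have h2 : MulAut.congr e d (e (e.symm s * x * (e.symm s)⁻¹)) = e (d (e.symm s * x * (e.symm s)⁻¹)) := by
      simp [MulAut.congr]
    rw [← h2, h1, hs]

/-- **The strong row of `PSL₂(q)`, `p ≥ 5` dividing `q`.** -/
theorem srow_psl2_own {F : Type*} [Field F] [Fintype F] {p : ℕ} (hp : p.Prime) (h5 : 5 ≤ p)
    (hF : p ∣ Fintype.card F) (B : SBox.{u} p) {S : Type u} [Group S]
    (e : S ≃* Matrix.ProjectiveSpecialLinearGroup (Fin 2) F) : SRow p S := by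
  have hch : CharP F p := by
    obtain ⟨n, hr, hn⟩ := FiniteField.card F (ringChar F)
    rw [hn] at hF
    rw [(Nat.prime_dvd_prime_iff_eq hp hr).1 (hp.dvd_of_dvd_pow hF)]
    infer_instance
  exact srow_psl2_own' hp h5 B.aa B.rs e

end Cfsg.Agent.H140.S5.PSL2Own
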